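import Groth.Agent.Lib.Comod.Orbits
import Groth.Agent.H66.Unip
import Mathlib

/-!
# Orbits of unipotent groups on affine schemes are closed
-/

set_option autoImplicit false
universe u v w

open TensorProduct Groth.Agent.Lib.Comod.Basic Groth.Agent.Lib.Comod.Orbits Groth.Agent.H66.Unip

noncomputable section

set_option linter.style.haveILetI false

namespace Groth.Agent.H95.UnipClosed

variable {k : Type u} [Field k] {H : Type u} [CommRing H] [HopfAlgebra k H]
  {R : Type u} [CommRing R] [Algebra k R] [HopfRep.Comod k H R] [GLin.IsCoactAlg k H R]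
  {L : Type v} [CommRing L] [Algebra k L]

/-- The point `z` moved by the point `g`, both with values in `L`. -/
def act (z : R →ₐ[k] L) (g : H →ₐ[k] L) : R →ₐ[k] L :=
  (Algebra.TensorProduct.productMap z g).comp (GLin.coactAlgHom k H R)

/-- The product of two points with values in `L`. -/
def mul (g h : H →ₐ[k] L) : H →ₐ[k] L :=
  (Algebra.TensorProduct.productMap g h).comp (Bialgebra.comulAlgHom k H)

theorem act_act (z : R →ₐ[k] L) (g h : H →ₐ[k] L) : act (act z g) h = act z (mul g h) := by
  refine AlgHom.ext fun f => ?_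
  have hc := LinearMap.congr_fun (HopfRep.Comod.coassoc (k := k) (A := H) (V := R)) f
  simp only [LinearMap.comp_apply, LinearEquiv.coe_coe] at hc
  simp only [act, mul, AlgHom.comp_apply, GLin.coactAlgHom_apply]
  have e1 : ∀ y : R ⊗[k] H, Algebra.TensorProduct.productMap
      ((Algebra.TensorProduct.productMap z g).comp (GLin.coactAlgHom k H R)) h y =
      Algebra.TensorProduct.productMap z (Algebra.TensorProduct.productMap g h)
        (TensorProduct.assoc k R H H
          ((HopfRep.Comod.coact (k := k) (A := H) (V := R)).rTensor H y)) := by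
    intro y
    induction y using TensorProduct.induction_on with
    | zero => simp
    | tmul r a =>
      simp only [Algebra.TensorProduct.productMap_apply_tmul, AlgHom.comp_apply,
        GLin.coactAlgHom_apply, LinearMap.rTensor_tmul]
      induction HopfRep.Comod.coact (k := k) (A := H) r using TensorProduct.induction_on with
      | zero => simp
      | tmul s b => simp [mul_assoc]
      | add x y hx hy => simp only [map_add, TensorProduct.add_tmul, add_mul, hx, hy]
    | add x y hx hy => simp only [map_add, hx, hy]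
  rw [e1, hc]
  induction HopfRep.Comod.coact (k := k) (A := H) f using TensorProduct.induction_on with
  | zero => simp
  | tmul s b => simp
  | add x y hx hy => simp only [map_add, hx, hy]

theorem act_counit (z : R →ₐ[k] L) :
    act z ((Algebra.ofId k L).comp (Bialgebra.counitAlgHom k H)) = z := by
  refine AlgHom.ext fun f => ?_
  refine Eq.trans ?_ (congrArg z (dact_counit_apply (k := k) (A := H) R f))
  simp only [act, AlgHom.comp_apply, GLin.coactAlgHom_apply, dact_apply]
  induction HopfRep.Comod.coact (k := k) (A := H) f using TensorProduct.induction_on with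
  | zero => simp
  | tmul s b => simp [Algebra.ofId_apply, Algebra.smul_def, mul_comm]
  | add x y hx hy => simp only [map_add, hx, hy]

/-- The inverse of a point. -/
def inv (g : H →ₐ[k] L) : H →ₐ[k] L := g.comp (HopfAlgebra.antipodeAlgHom k H)

theorem mul_inv (g : H →ₐ[k] L) :
    mul g (inv g) = (Algebra.ofId k L).comp (Bialgebra.counitAlgHom k H) := by
  refine AlgHom.ext fun a => ?_
  have h := LinearMap.congr_fun (HopfAlgebra.mul_antipode_lTensor_comul (R := k) (A := H)) a
  simp only [LinearMap.comp_apply] at h
  have e : ∀ y : H ⊗[k] H, Algebra.TensorProduct.productMap g (inv g) y =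
      g (LinearMap.mul' k H ((HopfAlgebraStruct.antipode (R := k) (A := H)).lTensor H y)) := by
    intro y
    induction y using TensorProduct.induction_on with
    | zero => simp
    | tmul _ _ => simp [inv]
    | add y z hy hz => simp only [map_add, hy, hz]
  simp only [mul, AlgHom.comp_apply, Bialgebra.comulAlgHom_apply]
  rw [e, h]
  simp [Algebra.ofId_apply]

theorem act_ofId (x : R →ₐ[k] k) (g : H →ₐ[k] L) :
    act ((Algebra.ofId k L).comp x) g = g.comp (GLin.orbitHom k H x) := by
  refine AlgHom.ext fun f => ?_
  simp only [act, GLin.orbitHom, AlgHom.comp_apply, GLin.coactAlgHom_apply]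
  induction HopfRep.Comod.coact (k := k) (A := H) f using TensorProduct.induction_on with
  | zero => simp
  | tmul s b => simp [Algebra.ofId_apply, Algebra.smul_def]
  | add x y hx hy => simp only [map_add, hx, hy]

/-- The orbit morphism of a point with values in `L`. -/
def orbit (z : R →ₐ[k] L) : R →ₐ[k] L ⊗[k] H :=
  (Algebra.TensorProduct.map z (AlgHom.id k H)).comp (GLin.coactAlgHom k H R)

theorem contract_orbit (z : R →ₐ[k] L) (φ : H →ₗ[k] k) (f : R) :
    contract L φ (orbit z f) = z (dact R φ f) := by
  simp only [orbit, AlgHom.comp_apply, GLin.coactAlgHom_apply, dact_apply]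
  induction HopfRep.Comod.coact (k := k) (A := H) f using TensorProduct.induction_on with
  | zero => simp
  | tmul s b => simp
  | add x y hx hy => simp only [map_add, hx, hy]

theorem orbit_eq_zero_iff (z : R →ₐ[k] L) (f : R) :
    orbit (H := H) z f = 0 ↔ ∀ φ : H →ₗ[k] k, z (dact R φ f) = 0 := by
  refine ⟨fun h φ => by rw [← contract_orbit, h, map_zero], fun h => ?_⟩
  exact ext_contract fun φ => by rw [contract_orbit, h φ, map_zero]

/-- For a unipotent group, every point of the orbit closure of a rational point has the same orbit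
closure. -/
theorem ker_orbit_eq (hU : HopfRep.IsUnipotent k H) [Nontrivial L] (x : R →ₐ[k] k) (z : R →ₐ[k] L)
    (hz : orbitKer (A := H) x ≤ RingHom.ker z) :
    RingHom.ker (orbit (H := H) z) = orbitKer (A := H) x := by
  set I := orbitKer (A := H) x with hI
  refine le_antisymm ?_ fun f hf => RingHom.mem_ker.2 ((orbit_eq_zero_iff z f).2 fun φ =>
    hz (dact_mem (isSubcomod_orbitKer x) φ hf))
  have key : ∀ n : ℕ, ∀ f ∈ fil k H R n, f ∈ RingHom.ker (orbit (H := H) z) → f ∈ I := by
    intro n
    induction n with
    | zero =>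
      intro f hf _
      rw [fil_zero, Submodule.mem_bot] at hf
      rw [hf]; exact zero_mem _
    | succ n ih =>
      intro f hf hJ
      have hJ' := (orbit_eq_zero_iff z f).1 (RingHom.mem_ker.1 hJ)
      have h1 : ∀ φ : H →ₗ[k] k, dact R φ f - φ 1 • f ∈ I := fun φ => by
        refine ih _ (mem_fil_succ.1 hf φ) (RingHom.mem_ker.2 ((orbit_eq_zero_iff z _).2 fun ψ => ?_))
        rw [map_sub, map_smul, dact_dact, map_sub, map_smul, hJ' _, hJ' ψ, smul_zero, sub_zero]
      have h2 : GLin.orbitHom k H x f = algebraMap k H (x f) := by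
        let b := Module.Free.chooseBasis k H
        refine b.repr.injective (Finsupp.ext fun i => ?_)
        have h3 : x (dact R (b.coord i) f - b.coord i 1 • f) = 0 := orbitKer_le_ker x (h1 _)
        rw [map_sub, map_smul, sub_eq_zero] at h3
        refine Eq.trans ?_ (Eq.trans (h3.trans (smul_eq_mul _ _)) ?_)
        · exact apply_orbitHom x (b.coord i) f
        · rw [Algebra.algebraMap_eq_smul_one, map_smul]
          simp [mul_comm]
      have h4 : f - algebraMap k R (x f) ∈ I := by
        rw [hI, RingHom.mem_ker, map_sub, h2, AlgHom.commutes, sub_self]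
      have h5 : algebraMap k R (x f) ∈ RingHom.ker z := by
        have h6 : z f = 0 := by
          have := hJ' CoalgebraStruct.counit
          rwa [dact_counit_apply] at this
        have := hz h4
        rw [RingHom.mem_ker, map_sub, h6, zero_sub, neg_eq_zero] at this
        exact this
      rw [RingHom.mem_ker, AlgHom.commutes, map_eq_zero] at h5
      rwa [h5, map_zero, sub_zero] at h4
  intro f hf
  let C := cyclic (k := k) (A := H) R f
  have hC : HopfRep.IsSubcomod (k := k) (A := H) C := isSubcomod_cyclic f
  haveI : Module.Finite k C := Module.Finite.iff_fg.2 (cyclic_fg R f)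
  letI := subComod C hC
  obtain ⟨n, hn⟩ := exists_fil_eq_top hU C
  refine key n f (map_fil_le (isComodHom_subtype hC) n ⟨⟨f, self_mem_cyclic R f⟩, ?_, rfl⟩) hf
  rw [hn]; exact Submodule.mem_top

/-- The orbit of a rational point under a unipotent group is closed. -/
theorem isClosedOrbit (hU : HopfRep.IsUnipotent k H) (x : R →ₐ[k] k) : GLin.IsClosedOrbit k H x := by
  let φ : R →ₐ[k] H := GLin.orbitHom k H x
  suffices h : Set.range (PrimeSpectrum.comap φ.toRingHom) =
      PrimeSpectrum.zeroLocus (orbitKer (A := H) x : Set R) by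
    change IsClosed (Set.range (PrimeSpectrum.comap φ.toRingHom))
    rw [h]; exact PrimeSpectrum.isClosed_zeroLocus _
  refine le_antisymm ((subset_closure).trans (PrimeSpectrum.closure_range_comap φ.toRingHom).subset) ?_
  rintro q (hq : orbitKer (A := H) x ≤ q.asIdeal)
  let z : R →ₐ[k] q.asIdeal.ResidueField := IsScalarTower.toAlgHom k R q.asIdeal.ResidueField
  have hzker : RingHom.ker z = q.asIdeal := Ideal.ker_algebraMap_residueField q.asIdeal
  let ψ : R →ₐ[k] q.asIdeal.ResidueField ⊗[k] H := orbit z
  have hker : RingHom.ker ψ = orbitKer (A := H) x := ker_orbit_eq hU x z (hzker.symm ▸ hq)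
  obtain ⟨p, hp⟩ := Ideal.nonempty_minimalPrimes (I := orbitKer (A := H) x)
    (fun h => q.isPrime.ne_top (top_le_iff.1 (h ▸ hq)))
  obtain ⟨q₁, hq₁, -, hq₁'⟩ := Ideal.exists_comap_eq_of_mem_minimalPrimes φ.toRingHom (I := ⊥) p hp
  obtain ⟨q₂, hq₂, -, hq₂'⟩ := Ideal.exists_comap_eq_of_mem_minimalPrimes ψ.toRingHom (I := ⊥) p
    (by rw [← hker] at hp; exact hp)
  haveI := hp.isPrime
  haveI := hq₁
  haveI := hq₂
  let e₁ : p.ResidueField →+* q₁.ResidueField := Ideal.ResidueField.map p q₁ φ.toRingHom hq₁'.symm
  let e₂ : p.ResidueField →+* q₂.ResidueField := Ideal.ResidueField.map p q₂ ψ.toRingHom hq₂'.symm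
  letI := e₁.toAlgebra
  letI := e₂.toAlgebra
  let T := q₁.ResidueField ⊗[p.ResidueField] q₂.ResidueField
  obtain ⟨M, hM⟩ := Ideal.exists_maximal T
  letI : Field (T ⧸ M) := Ideal.Quotient.field M
  let l₁ : q₁.ResidueField →+* T ⧸ M :=
    (Ideal.Quotient.mk M).comp Algebra.TensorProduct.includeLeftRingHom
  let l₂ : q₂.ResidueField →+* T ⧸ M :=
    (Ideal.Quotient.mk M).comp (Algebra.TensorProduct.includeRight :
      q₂.ResidueField →ₐ[p.ResidueField] T).toRingHom
  let a₁ : H →+* T ⧸ M := l₁.comp (algebraMap H q₁.ResidueField)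
  let a₂ : q.asIdeal.ResidueField ⊗[k] H →+* T ⧸ M := l₂.comp (algebraMap _ q₂.ResidueField)
  letI : Algebra k (T ⧸ M) := (a₁.comp (algebraMap k H)).toAlgebra
  have hkey : ∀ f : R, a₁ (φ f) = a₂ (ψ f) := by
    intro f
    have h1 : algebraMap H q₁.ResidueField (φ f) = e₁ (algebraMap R p.ResidueField f) :=
      (Ideal.ResidueField.map_algebraMap p q₁ φ.toRingHom hq₁'.symm f).symm
    have h2 : algebraMap _ q₂.ResidueField (ψ f) = e₂ (algebraMap R p.ResidueField f) :=
      (Ideal.ResidueField.map_algebraMap p q₂ ψ.toRingHom hq₂'.symm f).symm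
    change l₁ (algebraMap H q₁.ResidueField (φ f)) = l₂ (algebraMap _ q₂.ResidueField (ψ f))
    rw [h1, h2]
    exact congrArg (Ideal.Quotient.mk M)
      ((AlgHom.commutes (Algebra.TensorProduct.includeLeft :
        q₁.ResidueField →ₐ[p.ResidueField] T) _).trans
          (AlgHom.commutes (Algebra.TensorProduct.includeRight :
            q₂.ResidueField →ₐ[p.ResidueField] T) _).symm)
  let g : H →ₐ[k] T ⧸ M := { a₁ with commutes' := fun c => rfl }
  let G : q.asIdeal.ResidueField ⊗[k] H →ₐ[k] T ⧸ M :=
    { a₂ with
      commutes' := fun c => by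
        have h := hkey (algebraMap k R c)
        rw [AlgHom.commutes, AlgHom.commutes] at h
        exact h.symm }
  let zL : R →ₐ[k] T ⧸ M := (G.comp Algebra.TensorProduct.includeLeft).comp z
  let g₂ : H →ₐ[k] T ⧸ M := G.comp Algebra.TensorProduct.includeRight
  have e2 : G.comp ψ = act zL g₂ := by
    refine AlgHom.ext fun f => ?_
    simp only [ψ, orbit, act, zL, g₂, AlgHom.comp_apply, GLin.coactAlgHom_apply]
    induction HopfRep.Comod.coact (k := k) (A := H) f using TensorProduct.induction_on with
    | zero => simp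
    | tmul s b => simp [← map_mul]
    | add x y hx hy => simp only [map_add, hx, hy]
  have e1 : g.comp φ = G.comp ψ := AlgHom.ext hkey
  have e : zL = (mul g (inv g₂)).comp φ := by
    calc zL = act zL ((Algebra.ofId k (T ⧸ M)).comp (Bialgebra.counitAlgHom k H)) :=
          (act_counit zL).symm
      _ = act (act zL g₂) (inv g₂) := by rw [act_act, mul_inv]
      _ = act (act ((Algebra.ofId k (T ⧸ M)).comp x) g) (inv g₂) := by rw [← e2, ← e1, act_ofId]
      _ = act ((Algebra.ofId k (T ⧸ M)).comp x) (mul g (inv g₂)) := act_act _ _ _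
      _ = (mul g (inv g₂)).comp φ := act_ofId _ _
  refine ⟨⟨RingHom.ker (mul g (inv g₂)), RingHom.ker_isPrime _⟩, PrimeSpectrum.ext ?_⟩
  ext f
  refine Iff.trans ?_ (SetLike.ext_iff.1 hzker f)
  change mul g (inv g₂) (φ f) = 0 ↔ z f = 0
  rw [← AlgHom.comp_apply, ← e]
  exact map_eq_zero_iff (G.comp Algebra.TensorProduct.includeLeft).toRingHom (RingHom.injective _)

end Groth.Agent.H95.UnipClosed
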